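import Groth.Prelude.Def_Hens2
import Mathlib.AlgebraicGeometry.ZariskisMainTheorem

/-!
# Elementary étale neighbourhoods: residue fields and base change
-/

set_option autoImplicit false
set_option backward.isDefEq.respectTransparency false

universe u

open CategoryTheory CategoryTheory.Limits AlgebraicGeometry

namespace Groth.Agent.EtaleNbhdLib

variable {X U S : Scheme.{u}}

theorem bijective_aux (g : U ⟶ S) (p : U) (s : S) (e : g p = s) (r : U.residueField p ⟶ S.residueField s)
    (h : Spec.map r ≫ U.fromSpecResidueField p ≫ g = S.fromSpecResidueField s) :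
    Function.Bijective (g.residueFieldMap p) := by
  subst e
  rw [← Scheme.Hom.SpecMap_residueFieldMap_fromSpecResidueField, ← Category.assoc, ← Spec.map_comp] at h
  have h1 : g.residueFieldMap p ≫ r = 𝟙 _ := by
    apply Spec.map_injective
    rw [Spec.map_id, ← cancel_mono (S.fromSpecResidueField (g p)), h, Category.id_comp]
  have h2 : ∀ z, r.hom (g.residueFieldMap p z) = z := fun z => congr($(h1).hom z)
  refine ⟨fun a b hab => ?_, fun z => ⟨r.hom z, r.hom.injective (h2 _)⟩⟩
  rw [← h2 a, ← h2 b, hab]

/-- A lift of `Spec κ(s)` gives a point with trivial residue field extension. -/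
theorem bijective_of_section (g : U ⟶ S) (s : S) (σ : Spec (S.residueField s) ⟶ U)
    (h : σ ≫ g = S.fromSpecResidueField s) :
    g (σ (IsLocalRing.closedPoint (S.residueField s))) = s ∧
      Function.Bijective (g.residueFieldMap (σ (IsLocalRing.closedPoint (S.residueField s)))) := by
  have e : g (σ (IsLocalRing.closedPoint (S.residueField s))) = s := by
    rw [← Scheme.Hom.comp_apply, h]
    exact Scheme.fromSpecResidueField_apply _ _
  refine ⟨e, bijective_aux g _ s e (Scheme.descResidueField (K := S.residueField s) (Scheme.stalkClosedPointTo (R := .of (S.residueField s)) σ)) ?_⟩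
  rw [← Category.assoc]
  exact (congrArg (· ≫ g) (Scheme.descResidueField_stalkClosedPointTo_fromSpecResidueField (S.residueField s) U σ)).trans h

/-- The unique point of a pullback over a point with trivial residue field extension. -/
theorem exists_unique_point (f : X ⟶ S) (g : U ⟶ S) (x : X) (u : U) (h : f x = g u)
    (hb : Function.Bijective (g.residueFieldMap u)) :
    ∃ v : ↥(pullback f g), pullback.fst f g v = x ∧ pullback.snd f g v = u ∧
      (∀ w : ↥(pullback f g), pullback.fst f g w = x → pullback.snd f g w = u → w = v) ∧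
      Function.Bijective ((pullback.fst f g).residueFieldMap v) := by
  haveI : IsIso (g.residueFieldMap u) := (ConcreteCategory.isIso_iff_bijective _).2 hb
  haveI : Mono (U.fromSpecResidueField u ≫ g) := by
    rw [← Scheme.Hom.SpecMap_residueFieldMap_fromSpecResidueField]
    infer_instance
  let ψ : U.residueField u ⟶ X.residueField x :=
    inv (g.residueFieldMap u) ≫ (S.residueFieldCongr h.symm).hom ≫ f.residueFieldMap x
  have hψ : X.fromSpecResidueField x ≫ f = (Spec.map ψ ≫ U.fromSpecResidueField u) ≫ g := by
    rw [Category.assoc, ← Scheme.Hom.SpecMap_residueFieldMap_fromSpecResidueField g, ← Spec.map_comp_assoc,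
      IsIso.hom_inv_id_assoc, Spec.map_comp, Category.assoc,
      Scheme.residueFieldCongr_fromSpecResidueField, Scheme.Hom.SpecMap_residueFieldMap_fromSpecResidueField]
  let σ : Spec (X.residueField x) ⟶ pullback f g := pullback.lift _ _ hψ
  have hσ : σ ≫ pullback.fst f g = X.fromSpecResidueField x := pullback.lift_fst _ _ _
  obtain ⟨e₁, e₂⟩ := bijective_of_section (pullback.fst f g) x σ hσ
  refine ⟨_, e₁, ?_, fun w hw hwu => ?_, e₂⟩
  · rw [← Scheme.Hom.comp_apply, pullback.lift_snd, Scheme.Hom.comp_apply]
    exact Scheme.fromSpecResidueField_apply _ _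
  · subst hw
    let W := pullback f g
    let μ : Spec (W.residueField w) ⟶ Spec (X.residueField (pullback.fst f g w)) :=
      Spec.map ((pullback.fst f g).residueFieldMap w)
    have h1 : μ ≫ X.fromSpecResidueField _ = W.fromSpecResidueField w ≫ pullback.fst f g :=
      Scheme.Hom.SpecMap_residueFieldMap_fromSpecResidueField _ _
    have key : μ ≫ σ = W.fromSpecResidueField w := by
      apply pullback.hom_ext
      · rw [Category.assoc, hσ, h1]
      · rw [Category.assoc, pullback.lift_snd]
        subst hwu
        rw [← Scheme.Hom.SpecMap_residueFieldMap_fromSpecResidueField (pullback.snd f g), ← Category.assoc]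
        refine congrArg (· ≫ U.fromSpecResidueField _) ?_
        rw [← cancel_mono (U.fromSpecResidueField _ ≫ g)]
        simp only [Category.assoc]
        rw [← Category.assoc (Spec.map ψ), ← hψ, reassoc_of% h1,
          reassoc_of% (Scheme.Hom.SpecMap_residueFieldMap_fromSpecResidueField (pullback.snd f g) w),
          pullback.condition]
    refine (Scheme.fromSpecResidueField_apply w (IsLocalRing.closedPoint _)).symm.trans ?_
    rw [← key, Scheme.Hom.comp_apply]
    exact congrArg σ (Subsingleton.elim _ _)

/-- Over an elementary neighbourhood, a finite open piece with a single point over the base point. -/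
def IsolatedFinite (f : X ⟶ S) (g : U ⟶ S) (u : U) (x : X) : Prop :=
  ∃ (V : (pullback f g).Opens) (v : ↥(pullback f g)), v ∈ V ∧ IsFinite (V.ι ≫ pullback.snd f g) ∧
    pullback.snd f g v = u ∧ (∀ w : ↥(pullback f g), w ∈ V → pullback.snd f g w = u → w = v) ∧
    pullback.fst f g v = x ∧ Function.Bijective ((pullback.fst f g).residueFieldMap v)

theorem IsolatedFinite.mk' (f : X ⟶ S) (g : U ⟶ S) (u : U) (x : X)
    (hb : Function.Bijective (g.residueFieldMap u)) (V : (pullback f g).Opens) (v : ↥(pullback f g))
    (hv : v ∈ V) (hV : IsFinite (V.ι ≫ pullback.snd f g)) (hvu : pullback.snd f g v = u)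
    (huniq : ∀ w : ↥(pullback f g), w ∈ V → pullback.snd f g w = u → w = v)
    (hvx : pullback.fst f g v = x) : IsolatedFinite f g u x := by
  have hx : f x = g u := by
    rw [← hvx, ← hvu, ← Scheme.Hom.comp_apply, pullback.condition, Scheme.Hom.comp_apply]
  obtain ⟨v₀, -, -, hu₀, hb₀⟩ := exists_unique_point f g x u hx hb
  obtain rfl := hu₀ v hvx hvu
  exact ⟨V, v, hv, hV, hvu, huniq, hvx, hb₀⟩

/-- Isolation persists in a finer elementary neighbourhood. -/
theorem IsolatedFinite.comp {U' : Scheme.{u}} {f : X ⟶ S} {g : U ⟶ S} {u : U} {x : X}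
    (H : IsolatedFinite f g u x) (hb : Function.Bijective (g.residueFieldMap u)) (h : U' ⟶ U) (u' : U')
    (hu : h u' = u) (hb' : Function.Bijective ((h ≫ g).residueFieldMap u')) :
    IsolatedFinite f (h ≫ g) u' x := by
  obtain ⟨V, v, hv, hV, hvu, huniq, hvx, -⟩ := H
  have hx : f x = g u := by
    rw [← hvx, ← hvu, ← Scheme.Hom.comp_apply, pullback.condition, Scheme.Hom.comp_apply]
  let m : pullback f (h ≫ g) ⟶ pullback f g :=
    pullback.lift (pullback.fst f (h ≫ g)) (pullback.snd f (h ≫ g) ≫ h)
      (by rw [pullback.condition, Category.assoc])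
  have hm₁ : m ≫ pullback.fst f g = pullback.fst f (h ≫ g) := pullback.lift_fst _ _ _
  have hm₂ : m ≫ pullback.snd f g = pullback.snd f (h ≫ g) ≫ h := pullback.lift_snd _ _ _
  have H1 : IsPullback m (pullback.snd f (h ≫ g)) (pullback.snd f g) h := by
    refine IsPullback.of_right ?_ hm₂ (IsPullback.of_hasPullback f g)
    rw [hm₁]
    exact IsPullback.of_hasPullback f (h ≫ g)
  have H2 := ((isPullback_morphismRestrict m V).flip).paste_horiz H1.flip
  obtain ⟨v', hv'x, hv'u, hv'uniq, hb₀⟩ := exists_unique_point f (h ≫ g) x u'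
    (by rw [hx, Scheme.Hom.comp_apply, hu]) hb'
  obtain ⟨v₀, -, -, huniq₀, -⟩ := exists_unique_point f g x u hx hb
  have hfst : ∀ w, pullback.fst f g (m w) = pullback.fst f (h ≫ g) w := fun w => by
    rw [← Scheme.Hom.comp_apply, hm₁]
  have hsnd : ∀ w, pullback.snd f g (m w) = h (pullback.snd f (h ≫ g) w) := fun w => by
    rw [← Scheme.Hom.comp_apply, hm₂, Scheme.Hom.comp_apply]
  refine ⟨m ⁻¹ᵁ V, v', ?_, ?_, hv'u, fun w hw hwu => hv'uniq w ?_ hwu, hv'x, hb₀⟩
  · show m v' ∈ V
    rw [huniq₀ (m v') ((hfst _).trans hv'x) (by rw [hsnd, hv'u, hu]), ← huniq₀ v hvx hvu]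
    exact hv
  · exact MorphismProperty.of_isPullback (P := @IsFinite) H2.flip hV
  · rw [← hfst, huniq (m w) hw (by rw [hsnd, hwu, hu]), hvx]

end Groth.Agent.EtaleNbhdLib
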