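import Groth.Agent.EtaleNbhdLib.Basic

/-!
# Finite unions of finite clopen pieces; fibres over elementary neighbourhoods
-/

set_option autoImplicit false
set_option backward.isDefEq.respectTransparency false

universe u

open CategoryTheory CategoryTheory.Limits AlgebraicGeometry

namespace Groth.Agent.EtaleNbhdLib

variable {Z T : Scheme.{u}}

/-- A union of two clopen pieces finite over the base is finite over the base. -/
theorem isFinite_sup (π : Z ⟶ T) (A B : Z.Opens) (hA : IsClopen (A : Set Z))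
    [IsFinite (A.ι ≫ π)] [IsFinite (B.ι ≫ π)] : IsFinite ((A ⊔ B).ι ≫ π) := by
  let B' : Z.Opens := ⟨(B : Set Z) \ A, B.2.sdiff hA.1⟩
  have hB' : B' ≤ B := fun z hz => hz.1
  have h₁ : A ≤ A ⊔ B := le_sup_left
  have h₂ : B' ≤ A ⊔ B := hB'.trans le_sup_right
  haveI : IsClosedImmersion (Z.homOfLE hB') := by
    refine .of_isPreimmersion _ ?_
    convert (hA.2.isClosed_compl).preimage B.ι.continuous using 1
    ext ⟨z, hz⟩
    constructor
    · rintro ⟨t, ht⟩
      have : t.1 = z := (Z.homOfLE_apply hB' t).symm.trans (congrArg Subtype.val ht)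
      exact this ▸ t.2.2
    · exact fun h => ⟨⟨z, hz, h⟩, Subtype.ext (Z.homOfLE_apply _ _)⟩
  haveI : IsFinite (B'.ι ≫ π) := by
    rw [← Z.homOfLE_ι hB', Category.assoc]
    infer_instance
  have hc : IsCompl (Z.homOfLE h₁).opensRange (Z.homOfLE h₂).opensRange := by
    refine IsCompl.of_eq ?_ ?_
    · refine TopologicalSpace.Opens.ext (Set.eq_empty_iff_forall_notMem.2 ?_)
      rintro _ ⟨⟨a, rfl⟩, b, hb⟩
      have : b.1 = a.1 := (Z.homOfLE_apply h₂ b).symm.trans ((congrArg Subtype.val hb).trans (Z.homOfLE_apply h₁ a))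
      exact b.2.2 (this ▸ a.2)
    · refine TopologicalSpace.Opens.ext (Set.eq_univ_of_forall ?_)
      rintro ⟨z, hz⟩
      by_cases hzA : z ∈ A
      · exact Or.inl ⟨⟨z, hzA⟩, Subtype.ext (Z.homOfLE_apply _ _)⟩
      · exact Or.inr ⟨⟨z, hz.resolve_left hzA, hzA⟩, Subtype.ext (Z.homOfLE_apply _ _)⟩
  obtain ⟨H⟩ := nonempty_isColimit_binaryCofanMk_of_isCompl (Z.homOfLE h₁) (Z.homOfLE h₂) hc
  let e := H.coconePointUniqueUpToIso (colimit.isColimit (pair (A : Scheme.{u}) (B' : Scheme.{u})))
  have e₁ : Z.homOfLE h₁ ≫ e.hom = coprod.inl := H.comp_coconePointUniqueUpToIso_hom _ ⟨.left⟩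
  have e₂ : Z.homOfLE h₂ ≫ e.hom = coprod.inr := H.comp_coconePointUniqueUpToIso_hom _ ⟨.right⟩
  have h : (A ⊔ B).ι ≫ π = e.hom ≫ coprod.desc (A.ι ≫ π) (B'.ι ≫ π) := by
    refine BinaryCofan.IsColimit.hom_ext H ?_ ?_
    · simp [reassoc_of% e₁]
    · simp [reassoc_of% e₂]
  rw [h, MorphismProperty.cancel_left_of_respectsIso @IsFinite]
  infer_instance

/-- Finitely many clopen pieces finite over the base have clopen union finite over the base. -/
theorem isFinite_finsetSup {ι : Type*} (π : Z ⟶ T) (t : Finset ι) (V : ι → Z.Opens)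
    (hV : ∀ i ∈ t, IsClopen (V i : Set Z)) (hfin : ∀ i ∈ t, IsFinite ((V i).ι ≫ π)) :
    IsClopen ((t.sup V : Z.Opens) : Set Z) ∧ IsFinite ((t.sup V).ι ≫ π) := by
  classical
  induction t using Finset.induction_on with
  | empty =>
    refine ⟨by simp [isClopen_empty], ?_⟩
    haveI : IsEmpty ↥((∅ : Finset ι).sup V).toScheme := ⟨fun z => (show z.1 ∈ (⊥ : Z.Opens) from Finset.sup_empty (f := V) ▸ z.2).elim⟩
    infer_instance
  | @insert a t ha IH =>
    obtain ⟨h1, h2⟩ := IH (fun i hi => hV i (Finset.mem_insert_of_mem hi))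
      (fun i hi => hfin i (Finset.mem_insert_of_mem hi))
    rw [Finset.sup_insert]
    refine ⟨by rw [TopologicalSpace.Opens.coe_sup]; exact (hV a (Finset.mem_insert_self a t)).union h1, ?_⟩
    haveI := hfin a (Finset.mem_insert_self a t)
    haveI := h2
    exact isFinite_sup π _ _ (hV a (Finset.mem_insert_self a t))

/-- Over a point with trivial residue field extension the fibres agree. -/
theorem exists_fiber_iso {X U S : Scheme.{u}} (f : X ⟶ S) (g : U ⟶ S) (u : U)
    (hb : Function.Bijective (g.residueFieldMap u)) :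
    ∃ e : (pullback.snd f g).fiber u ⟶ f.fiber (g u), IsIso e ∧
      e ≫ f.fiberι (g u) = (pullback.snd f g).fiberι u ≫ pullback.fst f g := by
  haveI : IsIso (g.residueFieldMap u) := (ConcreteCategory.isIso_iff_bijective _).2 hb
  have Hr : IsPullback ((pullback.snd f g).fiberι u ≫ pullback.fst f g)
      ((pullback.snd f g).fiberToSpecResidueField u) f (U.fromSpecResidueField u ≫ g) :=
    IsPullback.paste_horiz (IsPullback.of_hasPullback (pullback.snd f g) (U.fromSpecResidueField u))
      (IsPullback.of_hasPullback f g)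
  have hsp := Scheme.Hom.SpecMap_residueFieldMap_fromSpecResidueField g u
  let e : (pullback.snd f g).fiber u ⟶ f.fiber (g u) :=
    pullback.lift ((pullback.snd f g).fiberι u ≫ pullback.fst f g)
      ((pullback.snd f g).fiberToSpecResidueField u ≫ Spec.map (g.residueFieldMap u))
      (by rw [Hr.w, Category.assoc, hsp])
  have he₁ : e ≫ f.fiberι (g u) = (pullback.snd f g).fiberι u ≫ pullback.fst f g := pullback.lift_fst _ _ _
  have he₂ : e ≫ f.fiberToSpecResidueField (g u) =
      (pullback.snd f g).fiberToSpecResidueField u ≫ Spec.map (g.residueFieldMap u) := pullback.lift_snd _ _ _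
  have H : IsPullback e ((pullback.snd f g).fiberToSpecResidueField u) (f.fiberToSpecResidueField (g u))
      (Spec.map (g.residueFieldMap u)) := by
    refine IsPullback.of_right ?_ he₂ (IsPullback.of_hasPullback f (S.fromSpecResidueField (g u)))
    rw [show e ≫ pullback.fst f (S.fromSpecResidueField (g u)) = _ from he₁, hsp]
    exact Hr
  exact ⟨e, MorphismProperty.of_isPullback (P := MorphismProperty.isomorphisms _) H.flip
    (inferInstanceAs (IsIso (Spec.map (g.residueFieldMap u)))), he₁⟩

end Groth.Agent.EtaleNbhdLib
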