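import Groth.Agent.EtaleNbhdLib.Basic

/-!
# Quasi-finite points become finite pieces over elementary étale neighbourhoods
-/

set_option autoImplicit false
set_option backward.isDefEq.respectTransparency false

universe u

open CategoryTheory CategoryTheory.Limits AlgebraicGeometry TensorProduct

namespace Groth.Agent.EtaleNbhdLib

variable {X S : Scheme.{u}}

/-- Trivial residue field extensions for morphisms of affine schemes. -/
theorem spec_residueFieldMap_bijective (A R : Type u) [CommRing A] [CommRing R] [Algebra A R]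
    (p : Ideal A) [p.IsPrime] (P : Ideal R) [P.IsPrime] [P.LiesOver p]
    (hb : Function.Bijective (Ideal.ResidueField.mapₐ p P (Algebra.ofId A R) (P.over_def p))) :
    Function.Bijective ((Spec.map (CommRingCat.ofHom (algebraMap A R))).residueFieldMap
      (⟨P, ‹_›⟩ : ↥(Spec (CommRingCat.of R)))) := by
  let s : ↥(Spec (CommRingCat.of A)) := ⟨p, ‹_›⟩
  let φ := AlgEquiv.ofBijective (Ideal.ResidueField.mapₐ p P (Algebra.ofId A R) (P.over_def p)) hb
  let ρ : R →ₐ[A] p.ResidueField := φ.symm.toAlgHom.comp (IsScalarTower.toAlgHom A R P.ResidueField)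
  let ι := (Scheme.Spec.residueFieldIso (CommRingCat.of A) s).inv
  let σ : Spec ((Spec (CommRingCat.of A)).residueField s) ⟶ Spec (CommRingCat.of R) :=
    Spec.map ι ≫ Spec.map (CommRingCat.ofHom ρ.toRingHom)
  have hσ : σ ≫ Spec.map (CommRingCat.ofHom (algebraMap A R)) =
      (Spec (CommRingCat.of A)).fromSpecResidueField s := by
    rw [← Scheme.Spec.map_residueFieldIso_inv_eq_fromSpecResidueField, Category.assoc, ← Spec.map_comp]
    congr 2
    ext a
    exact ρ.commutes a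
  have hpt : σ (IsLocalRing.closedPoint ((Spec (CommRingCat.of A)).residueField s)) =
      (⟨P, ‹_›⟩ : ↥(Spec (CommRingCat.of R))) := by
    refine PrimeSpectrum.ext ?_
    ext z
    have hpr : ∀ (K : Type u) [Field K] (θ : R →+* K) (c : PrimeSpectrum K), z ∈ c.asIdeal.comap θ ↔ θ z = 0 :=
      fun K _ θ c => by simp [(Ideal.eq_bot_or_top c.asIdeal).resolve_right c.2.ne_top]
    show z ∈ ((IsLocalRing.closedPoint _).asIdeal.comap ι.hom).comap ρ.toRingHom ↔ _
    rw [Ideal.comap_comap, hpr]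
    refine (map_eq_zero_iff ι.hom ι.hom.injective).trans ?_
    show φ.symm (algebraMap R P.ResidueField z) = 0 ↔ _
    rw [map_eq_zero_iff _ φ.symm.injective, Ideal.algebraMap_residueField_eq_zero]
  have h := (bijective_of_section _ s σ hσ).2
  rw [hpt] at h
  exact h

/-- A quasi-finite point is isolated in a finite open piece over an elementary étale neighbourhood. -/
theorem exists_isolatedFinite (f : X ⟶ S) [LocallyOfFiniteType f] (x : X) (hx : f.QuasiFiniteAt x) :
    ∃ (U : Scheme.{u}) (g : U ⟶ S) (u : U), Hens2.IsEtaleNbhd g u (f x) ∧ IsolatedFinite f g u x := by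
  obtain ⟨_, ⟨U, hU, rfl⟩, hxU, -⟩ := S.isBasis_affineOpens.exists_subset_of_mem_open
    (Set.mem_univ (f x)) isOpen_univ
  obtain ⟨_, ⟨V, hV, rfl⟩, hxV, hUV : V ≤ f ⁻¹ᵁ U⟩ :=
    X.isBasis_affineOpens.exists_subset_of_mem_open hxU (f ⁻¹ᵁ U).2
  have : (f.appLE U V hUV).hom.FiniteType := f.finiteType_appLE hU hV hUV
  algebraize [(f.appLE U V hUV).hom]
  have : (hV.primeIdealOf ⟨x, hxV⟩).asIdeal.LiesOver (hU.primeIdealOf ⟨f x, hxU⟩).asIdeal := by
    suffices hU.primeIdealOf ⟨f x, hxU⟩ = Spec.map (f.appLE U V hUV) (hV.primeIdealOf ⟨x, hxV⟩) from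
      ⟨congr(($this).1)⟩
    apply hU.isoSpec.inv.homeomorph.injective
    apply Subtype.ext
    simp only [IsAffineOpen.primeIdealOf, Scheme.Hom.homeomorph_apply,
      ← Scheme.Hom.comp_apply, ← Scheme.Opens.ι_apply, IsAffineOpen.isoSpec_hom]
    simp
  have : Algebra.QuasiFiniteAt Γ(S, U) (hV.primeIdealOf ⟨x, hxV⟩).asIdeal :=
    hx.quasiFiniteAt hV hU hUV hxV
  obtain ⟨R, _, _, _, P, _, _, e, _, P', _, _, hP', heP', hbij, _, huniq⟩ :=
    Algebra.exists_etale_isIdempotentElem_forall_liesOver_eq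
    (hU.primeIdealOf ⟨f x, hxU⟩).asIdeal (hV.primeIdealOf ⟨x, hxV⟩).asIdeal
  have : (algebraMap R (Localization.Away e)).Finite := RingHom.finite_algebraMap.mpr ‹_›
  let φ : Γ(S, U) ⟶ .of R := CommRingCat.ofHom <| algebraMap Γ(S, U) R
  have hφ : φ.hom.Etale := RingHom.etale_algebraMap.mpr ‹_›
  have : Etale (Spec.map φ) := HasRingHomProperty.Spec_iff.mpr hφ
  let e₁ : Spec (.of (R ⊗ Γ(X, V))) ≅ pullback (Spec.map (f.appLE U V hUV)) (Spec.map φ) :=
    (pullbackSpecIso _ _ _).symm ≪≫ pullbackSymmetry _ _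
  have he₁ : e₁.hom ≫ pullback.fst _ _ =
      Spec.map (CommRingCat.ofHom Algebra.TensorProduct.includeRight.toRingHom) := by
    dsimp [e₁, RingHom.algebraMap_toAlgebra]
    rw [Category.assoc, pullbackSymmetry_hom_comp_fst]
    exact pullbackSpecIso_inv_snd ..
  have he₂ : e₁.hom ≫ pullback.snd _ _ =
      Spec.map (CommRingCat.ofHom (algebraMap R (R ⊗[Γ(S, U)] Γ(X, V)))) := by
    dsimp [e₁, RingHom.algebraMap_toAlgebra]
    rw [Category.assoc, pullbackSymmetry_hom_comp_snd]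
    exact pullbackSpecIso_inv_fst ..
  let g : Spec (.of (R ⊗[Γ(S, U)] Γ(X, V))) ⟶ pullback f (Spec.map φ ≫ hU.fromSpec) :=
    e₁.hom ≫ pullback.map _ _ _ _ hV.fromSpec (𝟙 _) hU.fromSpec
      (IsAffineOpen.SpecMap_appLE_fromSpec ..) (by simp)
  have hg₂ : g ≫ pullback.snd f (Spec.map φ ≫ hU.fromSpec) =
      Spec.map (CommRingCat.ofHom (algebraMap R (R ⊗[Γ(S, U)] Γ(X, V)))) := by
    simp [g, he₂]
  let W₁ := g ''ᵁ PrimeSpectrum.basicOpen e
  have : IsFinite (W₁.ι ≫ pullback.snd f _) := by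
    let ι : Spec (.of (Localization.Away e)) ⟶ pullback f (Spec.map φ ≫ hU.fromSpec) :=
      Spec.map (CommRingCat.ofHom <| algebraMap _ _) ≫ g
    have : ι.opensRange = W₁ := by
      simp only [Scheme.Hom.opensRange_comp, ι, W₁]
      congr 1
      exact TopologicalSpace.Opens.ext <| PrimeSpectrum.localization_away_comap_range _ _
    rw [← this, ← MorphismProperty.cancel_left_of_respectsIso @IsFinite
      (Scheme.Hom.isoOpensRange _).hom]
    have H : (pullbackSpecIso _ R _).inv ≫ pullback.fst _ (Spec.map (f.appLE U V hUV)) = _ :=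
      pullbackSpecIso_inv_fst ..
    simpa [Scheme.Hom.isoOpensRange, ι, g, e₁, RingHom.algebraMap_toAlgebra, φ, H,
      ← Spec.map_comp, IsFinite.SpecMap_iff]
  have hres : Function.Bijective ((Spec.map φ ≫ hU.fromSpec).residueFieldMap
      (⟨P, ‹_›⟩ : ↥(Spec (CommRingCat.of R)))) := by
    rw [Scheme.residueFieldMap_comp]
    refine ((ConcreteCategory.isIso_iff_bijective _).1 ?_)
    haveI : IsIso (Scheme.Hom.residueFieldMap (Spec.map φ) (⟨P, ‹_›⟩ : ↥(Spec (CommRingCat.of R)))) :=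
      (ConcreteCategory.isIso_iff_bijective _).2 (spec_residueFieldMap_bijective _ _ _ P hbij)
    infer_instance
  have hgu : (Spec.map φ ≫ hU.fromSpec) (⟨P, ‹_›⟩ : ↥(Spec (CommRingCat.of R))) = f x := by
    dsimp [Spec.map_apply]
    convert! hU.fromSpec_primeIdealOf ⟨f x, hxU⟩
    exact PrimeSpectrum.ext (Ideal.over_def _ _).symm
  have hsnd : ∀ Q : ↥(Spec (CommRingCat.of (R ⊗[Γ(S, U)] Γ(X, V)))),
      pullback.snd f (Spec.map φ ≫ hU.fromSpec) (g Q) = PrimeSpectrum.comap (algebraMap R _) Q := fun Q => by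
    rw [← Scheme.Hom.comp_apply, hg₂]
    rfl
  refine ⟨Spec (.of R), Spec.map φ ≫ hU.fromSpec, ⟨P, ‹_›⟩, ⟨inferInstance, hgu, hres⟩,
    IsolatedFinite.mk' f _ _ _ hres W₁ (g ⟨P', ‹_›⟩) ⟨⟨P', ‹_›⟩, heP', rfl⟩ ‹_› ?_ ?_ ?_⟩
  · rw [hsnd]
    exact PrimeSpectrum.ext (P'.over_def P).symm
  · rintro _ ⟨Q, hQ, rfl⟩ hQu
    replace hQu := (hsnd Q).symm.trans hQu
    refine congrArg g ?_
    exact PrimeSpectrum.ext (huniq Q.asIdeal Q.2 ⟨(congrArg PrimeSpectrum.asIdeal hQu).symm⟩ hQ)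
  · trans hV.fromSpec ⟨P'.comap Algebra.TensorProduct.includeRight.toRingHom, inferInstance⟩
    · simp [← Scheme.Hom.comp_apply, -Scheme.Hom.comp_base, g, reassoc_of% he₁]; rfl
    convert! hV.fromSpec_primeIdealOf ⟨x, hxV⟩

end Groth.Agent.EtaleNbhdLib
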